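import Groth.Agent.S3024
import Groth.Agent.S5355
import Groth.Agent.Lib.RedSub.Basic
import Groth.Agent.Lib.GrpSchField.ReducedProd
import Groth.Agent.Lib.EssFree.Subgroup
import Groth.Agent.Lib.Hopf.Faithful
import Groth.Agent.Lib.AlgSp.FppfDescent
import Mathlib

/-!
Quasi-compact monomorphisms from group schemes to affine group schemes over a field are closed immersions.
-/

set_option autoImplicit false
set_option backward.isDefEq.respectTransparency false

universe u

open CategoryTheory CategoryTheory.Limits MonoidalCategory CartesianMonoidalCategory MonObj GrpObj AlgebraicGeometry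

noncomputable section

namespace GrothLib.AffMono14

variable {k : Type u} [Field k]

local notation "S" => Spec (CommRingCat.of k)

/-- A schematically dominant homomorphism of affine groups over a field is faithfully flat. -/
theorem flat_surjective_affine {G H : Over S} [GrpObj G] [GrpObj H] [IsAffine G.left] [IsAffine H.left]
    (f : G ⟶ H) [IsMonHom f] (hinj : Function.Injective f.left.appTop.hom) :
    Flat f.left ∧ Surjective f.left := by
  obtain ⟨H₁', ⟨e⟩⟩ := (essImage_hopfSpec (R := CommRingCat.of k) (G := Grp.mk G)).2 ‹IsAffine G.left›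
  obtain ⟨H₁, rfl⟩ : ∃ A, Opposite.op A = H₁' := ⟨H₁'.unop, rfl⟩
  obtain ⟨H₂', ⟨e'⟩⟩ := (essImage_hopfSpec (R := CommRingCat.of k) (G := Grp.mk H)).2 ‹IsAffine H.left›
  obtain ⟨H₂, rfl⟩ : ∃ A, Opposite.op A = H₂' := ⟨H₂'.unop, rfl⟩
  let hg : Grp.mk G ⟶ Grp.mk H := Grp.homMk (A := Grp.mk G) (B := Grp.mk H) f
  obtain ⟨g, hgf⟩ : ∃ g, (hopfSpec (CommRingCat.of k)).map g = e.hom ≫ hg ≫ e'.inv :=
    ⟨hopfSpec.fullyFaithful.preimage _, hopfSpec.fullyFaithful.map_preimage _⟩
  let φ : (H₂ : Type u) →ₐc[k] (H₁ : Type u) := g.unop.hom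
  let P₁ : Over S := (Spec (CommRingCat.of (H₁ : Type u))).asOver S
  let P₂ : Over S := (Spec (CommRingCat.of (H₂ : Type u))).asOver S
  let i : P₁ ≅ G := (Grp.forget _).mapIso e
  let i' : P₂ ≅ H := (Grp.forget _).mapIso e'
  let F : Spec (CommRingCat.of (H₁ : Type u)) ⟶ Spec (CommRingCat.of (H₂ : Type u)) :=
    Spec.map (CommRingCat.ofHom (φ : (H₂ : Type u) →+* (H₁ : Type u)))
  have hm : F = i.hom.left ≫ f.left ≫ i'.inv.left :=
    congrArg (fun q : (hopfSpec (CommRingCat.of k)).obj (Opposite.op H₁) ⟶
      (hopfSpec (CommRingCat.of k)).obj (Opposite.op H₂) => q.hom.hom.left) hgf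
  haveI : IsIso i.hom.left := (Over.forget _).map_isIso i.hom
  haveI : IsIso i'.inv.left := (Over.forget _).map_isIso i'.inv
  have hb : ∀ {X Y : Scheme.{u}} (q : X ⟶ Y) [IsIso q], Function.Injective q.appTop.hom := fun q _ =>
    ((ConcreteCategory.isIso_iff_bijective q.appTop).1 inferInstance).1
  have hφ : Function.Injective φ := by
    have h1 : Function.Injective F.appTop.hom := by
      rw [hm, Scheme.Hom.comp_appTop, Scheme.Hom.comp_appTop]
      simp only [CommRingCat.hom_comp, RingHom.coe_comp]
      exact ((hb i.hom.left).comp hinj).comp (hb i'.inv.left)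
    intro a b hab
    apply (Scheme.ΓSpecIso (CommRingCat.of (H₂ : Type u))).commRingCatIsoToRingEquiv.symm.injective
    refine h1 ?_
    have hn := fun c => congrArg (fun q => q.hom c)
      (Scheme.ΓSpecIso_inv_naturality (CommRingCat.ofHom (φ : (H₂ : Type u) →+* (H₁ : Type u))))
    exact (hn a).symm.trans ((congrArg (fun c => (Scheme.ΓSpecIso (CommRingCat.of (H₁ : Type u))).inv.hom c) hab).trans (hn b))
  letI : Algebra (H₂ : Type u) (H₁ : Type u) := (φ : (H₂ : Type u) →+* (H₁ : Type u)).toAlgebra
  haveI := GrothLib.Hopf.faithfullyFlat φ (fun _ => rfl) hφ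
  haveI : Flat F := (HasRingHomProperty.Spec_iff (P := @Flat)).2
    (show RingHom.Flat (algebraMap (H₂ : Type u) (H₁ : Type u)) from RingHom.flat_algebraMap_iff.2 inferInstance)
  haveI : Surjective F := ⟨PrimeSpectrum.comap_surjective_of_faithfullyFlat⟩
  have e0 : f.left = inv i.hom.left ≫ F ≫ inv i'.inv.left := by rw [hm]; simp
  rw [e0]
  exact ⟨inferInstance, inferInstance⟩

/-- The reduced subgroup over a perfect field. -/
theorem exists_red [PerfectField k] (G : Over S) [GrpObj G] :
    ∃ (Gr : Over S) (_ : GrpObj Gr) (j : Gr ⟶ G), IsMonHom j ∧ IsClosedImmersion j.left ∧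
      IsReduced Gr.left ∧ Surjective j.left := by
  let I := Scheme.IdealSheafData.vanishingIdeal (⊤ : TopologicalSpace.Closeds G.left)
  haveI : IsReduced I.subscheme := GrothLib.RedSub.isReduced_subscheme_vanishingIdeal _
  let Gr : Over S := Over.mk (I.subschemeι ≫ G.hom)
  let j : Gr ⟶ G := Over.homMk I.subschemeι rfl
  haveI hj : IsClosedImmersion j.left := inferInstanceAs (IsClosedImmersion I.subschemeι)
  haveI : IsReduced Gr.left := inferInstanceAs (IsReduced I.subscheme)
  have hrange : Set.range j.left = Set.univ := GrothLib.RedSub.range_subschemeι_vanishingIdeal _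
  have hlift : ∀ (T : Over S), IsReduced T.left → ∀ x : T ⟶ G, ∃ z : T ⟶ Gr, z ≫ j = x := fun T _ x => by
    obtain ⟨l, hl⟩ := GrothLib.RedSub.exists_lift x.left j.left (by rw [hrange]; exact Set.subset_univ _)
    exact ⟨Over.homMk l (by show l ≫ j.left ≫ G.hom = T.hom; rw [reassoc_of% hl, Over.w x]),
      Over.OverMorphism.ext hl⟩
  haveI : Mono j := Over.mono_of_mono_left j
  haveI : IsReduced (Gr ⊗ Gr).left := GrothLib.GrpSchField.isReduced_pullback Gr.hom Gr.hom
  haveI : IsReduced (𝟙_ (Over S)).left := inferInstanceAs (IsReduced S)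
  obtain ⟨e, he⟩ := hlift (𝟙_ _) inferInstance 1
  obtain ⟨m, hm⟩ := hlift (Gr ⊗ Gr) inferInstance ((fst Gr Gr ≫ j) * (snd Gr Gr ≫ j))
  obtain ⟨v, hv⟩ := hlift Gr inferInstance j⁻¹
  obtain ⟨g, hg⟩ := GrothLib.EssFree.exists_grpObj_of_mono j
    (fun T => ⟨toUnit T ≫ e, by rw [Category.assoc, he, MonObj.comp_one]⟩)
    (fun T a b => ⟨lift a b ≫ m, by
      rw [Category.assoc, hm, MonObj.comp_mul, lift_fst_assoc, lift_snd_assoc]⟩)
    (fun T a => ⟨a ≫ v, by rw [Category.assoc, hv, GrpObj.comp_inv]⟩)
  exact ⟨Gr, g, j, hg, hj, inferInstance, ⟨Set.range_eq_univ.1 hrange⟩⟩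

/-- A quasi-compact schematically dominant monomorphism to an affine group over a perfect field is an
isomorphism. -/
theorem isIso_of_mono [PerfectField k] {G H : Over S} [GrpObj G] [GrpObj H] [IsAffine H.left] (f : G ⟶ H)
    [IsMonHom f] [Mono f] [QuasiCompact f.left] [Surjective f.left] (hker : f.left.ker = ⊥) :
    IsIso f.left := by
  haveI hmf : Mono f.left := inferInstanceAs (Mono ((Over.forget _).map f))
  obtain ⟨Gr, _, a, _, _, hGr, ha⟩ := exists_red G
  obtain ⟨Hr, _, b, _, _, hHr, hbs⟩ := exists_red H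
  haveI : Mono b := Over.mono_of_mono_left b
  haveI : Mono a := Over.mono_of_mono_left a
  obtain ⟨l, hl⟩ := GrothLib.RedSub.exists_lift (a ≫ f).left b.left
    (fun y _ => hbs.surj y)
  let fr : Gr ⟶ Hr := Over.homMk l (by rw [← Over.w b, reassoc_of% hl]; exact Over.w (a ≫ f))
  have hfr : fr ≫ b = a ≫ f := Over.OverMorphism.ext hl
  haveI : IsMonHom fr :=
    { one_hom := by rw [← cancel_mono b, Category.assoc, hfr, IsMonHom.one_hom, IsMonHom.one_hom]
      mul_hom := by
        rw [← cancel_mono b, Category.assoc, hfr, IsMonHom.mul_hom, Category.assoc, IsMonHom.mul_hom,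
          ← Category.assoc, tensorHom_comp_tensorHom, hfr] }
  have hfrl : fr.left ≫ b.left = a.left ≫ f.left := by rw [← Over.comp_left, hfr, Over.comp_left]
  haveI : QuasiCompact fr.left := by
    haveI : QuasiCompact (fr.left ≫ b.left) := by rw [hfrl]; infer_instance
    exact QuasiCompact.of_comp fr.left b.left
  haveI : Mono fr.left := by
    haveI : Mono (fr.left ≫ b.left) := by rw [hfrl]; infer_instance
    exact mono_of_mono fr.left b.left
  haveI hsur : Surjective fr.left := ⟨fun y => by
    obtain ⟨x, hx⟩ := f.left.surjective (b.left y)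
    obtain ⟨z, rfl⟩ := a.left.surjective x
    refine ⟨z, b.left.isClosedEmbedding.injective ?_⟩
    rw [← Scheme.Hom.comp_apply, hfrl, Scheme.Hom.comp_apply, hx]⟩
  haveI : Flat fr.left := (Groth.Agent.S5355.result k Gr Hr fr hsur.surj.denseRange).2 hHr
  haveI := Flat.isIso_of_surjective_of_mono fr.left
  have ha' : Function.Bijective a.left := ⟨a.left.isClosedEmbedding.injective, ha.surj⟩
  haveI hcomp : IsClosedImmersion (a.left ≫ f.left) := by rw [← hfrl]; infer_instance
  let ea := (Equiv.ofBijective _ ha').toHomeomorphOfContinuousClosed a.left.continuous a.left.isClosedEmbedding.isClosedMap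
  have hind : Topology.IsClosedEmbedding f.left := by
    have h1 : (f.left : G.left → H.left) = (fun z => (a.left ≫ f.left) z) ∘ ea.symm := by
      funext x
      show f.left x = (a.left ≫ f.left) (ea.symm x)
      rw [Scheme.Hom.comp_apply]
      exact congrArg f.left (ea.apply_symm_apply x).symm
    rw [h1]
    exact (a.left ≫ f.left).isClosedEmbedding.comp ea.symm.isClosedEmbedding
  haveI : IsAffineHom f.left := isAffineHom_of_isInducing f.left hind.isInducing hind.isClosed_range
  haveI : IsAffine G.left := isAffine_of_isAffineHom f.left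
  haveI := (flat_surjective_affine f (by
    rw [RingHom.injective_iff_ker_eq_bot]
    have h := f.left.ker_apply ⟨⊤, isAffineOpen_top H.left⟩
    rw [hker] at h
    simpa using h.symm)).1
  exact Flat.isIso_of_surjective_of_mono f.left

/-- A quasi-compact monomorphism of a group scheme into an affine group scheme over a field is a closed
immersion. -/
theorem isClosedImmersion_of_mono {G H : Over S} [GrpObj G] [GrpObj H] [IsAffine H.left] (u : G ⟶ H)
    [IsMonHom u] [Mono u] [QuasiCompact u.left] : IsClosedImmersion u.left := by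
  let K := AlgebraicClosure k
  let t : Spec (CommRingCat.of K) ⟶ S := Spec.map (CommRingCat.ofHom (algebraMap k K))
  let u' := (Over.pullback t).map u
  haveI : Mono u' := inferInstance
  haveI : IsAffineHom H.hom := isAffineHom_of_isAffine _
  haveI : IsAffine (Red.bc t H).left :=
    @isAffine_of_isAffineHom _ _ (pullback.snd H.hom t) (MorphismProperty.pullback_snd H.hom t ‹IsAffineHom H.hom›) _
  have sq : IsPullback (pullback.fst G.hom t) u'.left u.left (pullback.fst H.hom t) := by
    refine IsPullback.of_bot ?_ (pullback.lift_fst _ _ _).symm (IsPullback.of_hasPullback H.hom t)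
    rw [Over.w u]
    convert IsPullback.of_hasPullback G.hom t using 1
    exact pullback.lift_snd _ _ _
  haveI : QuasiCompact u'.left := MorphismProperty.of_isPullback sq ‹QuasiCompact u.left›
  obtain ⟨H', _, i, f', hi, hf', hfi, hic, hker, hqc, hsur⟩ :=
    Groth.Agent.S3024.result K (Red.bc t G) (Red.bc t H) u'
  haveI := hi
  haveI := hf'
  haveI := hic
  haveI := hqc
  haveI := hsur
  haveI : IsAffine H'.left := isAffine_of_isAffineHom i.left
  haveI : Mono (f' ≫ i) := by rw [hfi]; infer_instance
  haveI : Mono f' := mono_of_mono f' i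
  haveI := isIso_of_mono f' hker
  have hu' : IsClosedImmersion u'.left := by rw [← hfi, Over.comp_left]; infer_instance
  haveI : Surjective t := ⟨fun x => ⟨default, Subsingleton.elim (α := S) _ _⟩⟩
  haveI : Flat t := GrothLib.AlgSp.flat_to_field _
  have hc : (@Surjective ⊓ @Flat ⊓ @QuasiCompact : MorphismProperty Scheme.{u}) (pullback.fst H.hom t) :=
    ⟨⟨MorphismProperty.pullback_fst H.hom t ‹Surjective t›, MorphismProperty.pullback_fst H.hom t ‹Flat t›⟩,
      MorphismProperty.pullback_fst H.hom t inferInstance⟩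
  haveI := hu'
  haveI : UniversallyClosed u.left := MorphismProperty.of_isPullback_of_descendsAlong
    (P := @UniversallyClosed) (Q := @Surjective ⊓ @Flat ⊓ @QuasiCompact) sq.flip hc inferInstance
  haveI : LocallyOfFiniteType u.left := MorphismProperty.of_isPullback_of_descendsAlong
    (P := @LocallyOfFiniteType) (Q := @Surjective ⊓ @Flat ⊓ @QuasiCompact) sq.flip hc inferInstance
  haveI : Mono u.left := inferInstanceAs (Mono ((Over.forget _).map u))
  haveI : IsProper u.left := { }
  exact (IsClosedImmersion.iff_isProper_and_mono u.left).2 ⟨inferInstance, inferInstance⟩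

end GrothLib.AffMono14
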