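import Groth.Agent.Lib.AffMono14.Basic
import Groth.Agent.Lib.GrpSchField.Shear
import Mathlib

/-!
Affine hulls of quasi-compact quasi-separated group schemes over a field; quasi-affine groups are affine.
-/

set_option autoImplicit false
set_option backward.isDefEq.respectTransparency false

universe u

open CategoryTheory CategoryTheory.Limits MonoidalCategory CartesianMonoidalCategory MonObj GrpObj AlgebraicGeometry

noncomputable section

namespace GrothLib.AffMono14

variable {k : Type u} [Field k]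

local notation "S" => Spec (CommRingCat.of k)

/-- Global functions of a product over a field. -/
theorem isPushout_appTop_prod (X Y : Over S) [QuasiCompact X.hom] [QuasiSeparated X.hom] [QuasiCompact Y.hom]
    [QuasiSeparated Y.hom] :
    IsPushout X.hom.appTop Y.hom.appTop (fst X Y).left.appTop (snd X Y).left.appTop := by
  haveI : CompactSpace X.left := QuasiCompact.compactSpace_of_compactSpace X.hom
  haveI : QuasiSeparatedSpace X.left := quasiSeparatedSpace_of_quasiSeparated X.hom
  haveI : CompactSpace Y.left := QuasiCompact.compactSpace_of_compactSpace Y.hom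
  haveI : QuasiSeparatedSpace Y.left := quasiSeparatedSpace_of_quasiSeparated Y.hom
  haveI : Flat Y.hom := GrothLib.AlgSp.flat_to_field _
  haveI : Flat X.hom := GrothLib.AlgSp.flat_to_field _
  have sq : IsPullback (fst X Y).left (snd X Y).left X.hom Y.hom := IsPullback.of_hasPullback X.hom Y.hom
  have hflat : (X.hom.appLE ⊤ ⊤ (by simp)).hom.Flat := by
    have hf : IsField Γ(S, ⊤) :=
      ((Scheme.ΓSpecIso (CommRingCat.of k)).commRingCatIsoToRingEquiv).toMulEquiv.isField (Field.toIsField k)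
    letI := hf.toField
    letI := (X.hom.appLE ⊤ ⊤ (by simp)).hom.toAlgebra
    exact (inferInstance : Module.Flat Γ(S, ⊤) Γ(X.left, ⊤))
  have h := (isIso_pushoutSection_iff sq (US := ⊤) (UT := ⊤) (UX := ⊤) (UY := ⊤) (by simp) (by simp)
    (by simp)).1 (isIso_pushoutSection_of_isCompact_of_flat_right_of_ringHomFlat sq _ _ _ (isAffineOpen_top _)
      isCompact_univ isQuasiSeparated_univ isCompact_univ isQuasiSeparated_univ hflat)
  refine h.of_iso (Iso.refl _) (Iso.refl _) (Iso.refl _) (Iso.refl _) ?_ ?_ ?_ ?_ <;>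
    simp [Scheme.Hom.appTop, Scheme.Hom.appLE]

/-- `i : X ⟶ H` is an affine hull. -/
structure IsHull {X H : Over S} (i : X ⟶ H) : Prop where
  qc : QuasiCompact X.hom
  qs : QuasiSeparated X.hom
  affine : IsAffine H.left
  iso : IsIso i.left.appTop

theorem IsHull.ext_scheme {X H : Over S} {i : X ⟶ H} (hi : IsHull i) {Z : Scheme.{u}} [IsAffine Z]
    {a b : H.left ⟶ Z} (h : i.left ≫ a = i.left ≫ b) : a = b := by
  haveI := hi.iso
  apply ext_of_isAffine
  have h' := congrArg Scheme.Hom.appTop h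
  rwa [Scheme.Hom.comp_appTop, Scheme.Hom.comp_appTop, cancel_mono] at h'

theorem IsHull.ext {X H Z : Over S} {i : X ⟶ H} (hi : IsHull i) [IsAffine Z.left] {a b : H ⟶ Z}
    (h : i ≫ a = i ≫ b) : a = b :=
  Over.OverMorphism.ext (hi.ext_scheme (by rw [← Over.comp_left, h, Over.comp_left]))

theorem IsHull.exists_lift {X H Z : Over S} {i : X ⟶ H} (hi : IsHull i) [IsAffine Z.left] (f : X ⟶ Z) :
    ∃ g : H ⟶ Z, i ≫ g = f := by
  haveI := hi.iso
  haveI := hi.affine
  let g := H.left.toSpecΓ ≫ Spec.map (f.left.appTop ≫ inv i.left.appTop) ≫ Z.left.isoSpec.inv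
  have hg : i.left ≫ g = f.left := by
    simp only [g]
    rw [Scheme.toSpecΓ_naturality_assoc, ← Category.assoc (Spec.map i.left.appTop), ← Spec.map_comp,
      Category.assoc, IsIso.inv_hom_id, Category.comp_id, ← Scheme.toSpecΓ_naturality_assoc,
      ← Scheme.isoSpec_hom, Iso.hom_inv_id, Category.comp_id]
  refine ⟨Over.homMk g (hi.ext_scheme ?_), Over.OverMorphism.ext hg⟩
  rw [reassoc_of% hg]
  exact (Over.w f).trans (Over.w i).symm

theorem IsHull.tensor {X H Y H' : Over S} {i : X ⟶ H} {j : Y ⟶ H'} (hi : IsHull i) (hj : IsHull j) :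
    IsHull (i ⊗ₘ j) := by
  haveI := hi.iso; haveI := hi.qc; haveI := hi.qs; haveI := hi.affine
  haveI := hj.iso; haveI := hj.qc; haveI := hj.qs; haveI := hj.affine
  haveI : IsAffineHom H.hom := isAffineHom_of_isAffine _
  haveI : IsAffineHom H'.hom := isAffineHom_of_isAffine _
  refine ⟨?_, ?_, inferInstanceAs (IsAffine (pullback H.hom H'.hom)), ?_⟩
  · show QuasiCompact (pullback.fst X.hom Y.hom ≫ X.hom)
    infer_instance
  · show QuasiSeparated (pullback.fst X.hom Y.hom ≫ X.hom)
    infer_instance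
  have h1 := isPushout_appTop_prod H H'
  have h2 := isPushout_appTop_prod X Y
  have hw1 : H.hom.appTop ≫ i.left.appTop = X.hom.appTop := by rw [← Scheme.Hom.comp_appTop, Over.w i]
  have hw2 : H'.hom.appTop ≫ j.left.appTop = Y.hom.appTop := by rw [← Scheme.Hom.comp_appTop, Over.w j]
  have h3 : IsPushout H.hom.appTop H'.hom.appTop (i.left.appTop ≫ (fst X Y).left.appTop)
      (j.left.appTop ≫ (snd X Y).left.appTop) :=
    h2.of_iso (Iso.refl _) (asIso i.left.appTop).symm (asIso j.left.appTop).symm (Iso.refl _)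
      (by simp [← hw1]) (by simp [← hw2]) (by simp) (by simp)
  have e : (i ⊗ₘ j).left.appTop = (h1.isoIsPushout _ _ h3).hom := by
    apply h1.hom_ext
    · rw [IsPushout.inl_isoIsPushout_hom, ← Scheme.Hom.comp_appTop, ← Over.comp_left, tensorHom_fst,
        Over.comp_left, Scheme.Hom.comp_appTop]
    · rw [IsPushout.inr_isoIsPushout_hom, ← Scheme.Hom.comp_appTop, ← Over.comp_left, tensorHom_snd,
        Over.comp_left, Scheme.Hom.comp_appTop]
  rw [e]
  infer_instance

/-- A quasi-affine group scheme of finite type over a field is affine. -/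
theorem isAffine_of_isQuasiAffine (G : Over S) [GrpObj G] [G.left.IsQuasiAffine] : IsAffine G.left := by
  let H : Over S := Over.mk (Spec.map G.hom.appTop ≫ (S).isoSpec.inv)
  let i : G ⟶ H := Over.homMk G.left.toSpecΓ (by
    show G.left.toSpecΓ ≫ Spec.map G.hom.appTop ≫ (S).isoSpec.inv = G.hom
    rw [← Scheme.toSpecΓ_naturality_assoc, ← Scheme.isoSpec_hom, Iso.hom_inv_id, Category.comp_id])
  haveI : CompactSpace G.left := Scheme.IsQuasiAffine.toCompactSpace
  haveI : QuasiCompact G.hom := quasiCompact_of_compactSpace _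
  haveI : IsAffine H.left := inferInstanceAs (IsAffine (Spec _))
  haveI : IsImmersion i.left := inferInstanceAs (IsImmersion G.left.toSpecΓ)
  haveI : IsSeparated i.left := inferInstance
  haveI : IsSeparated G.hom := by rw [← Over.w i]; infer_instance
  have hi : IsHull i := ⟨inferInstance, inferInstance, inferInstance,
    (by show IsIso G.left.toSpecΓ.appTop; rw [Scheme.toSpecΓ_appTop]; infer_instance)⟩
  have h2 := hi.tensor hi
  haveI : IsAffine (H ⊗ H).left := h2.affine
  have h3 := h2.tensor hi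
  obtain ⟨m, hm⟩ := h2.exists_lift (Z := H) (μ[G] ≫ i)
  obtain ⟨v, hv⟩ := hi.exists_lift (Z := H) (ι[G] ≫ i)
  let e : 𝟙_ (Over S) ⟶ H := η[G] ≫ i
  let inst : GrpObj H := {
    one := e
    mul := m
    one_mul := by
      have hh : IsHull (𝟙 (𝟙_ (Over S)) ⊗ₘ i) := IsHull.tensor ⟨inferInstanceAs (QuasiCompact (𝟙 S)),
        inferInstanceAs (QuasiSeparated (𝟙 S)), inferInstanceAs (IsAffine S), inferInstanceAs (IsIso (Scheme.Hom.appTop (𝟙 S)))⟩ hi
      refine hh.ext ?_
      have : (𝟙 (𝟙_ (Over S)) ⊗ₘ i) ≫ (e ▷ H) = (η[G] ▷ G) ≫ (i ⊗ₘ i) := by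
        apply CartesianMonoidalCategory.hom_ext <;> simp [e, leftUnitor_hom, toUnit_unique (fst (𝟙_ (Over S)) G) (toUnit _)]
      rw [reassoc_of% this, hm, ← Category.assoc, MonObj.one_mul]
      simp [leftUnitor_hom]
    mul_one := by
      have hh : IsHull (i ⊗ₘ 𝟙 (𝟙_ (Over S))) := IsHull.tensor hi ⟨inferInstanceAs (QuasiCompact (𝟙 S)),
        inferInstanceAs (QuasiSeparated (𝟙 S)), inferInstanceAs (IsAffine S), inferInstanceAs (IsIso (Scheme.Hom.appTop (𝟙 S)))⟩
      refine hh.ext ?_
      have : (i ⊗ₘ 𝟙 (𝟙_ (Over S))) ≫ (H ◁ e) = (G ◁ η[G]) ≫ (i ⊗ₘ i) := by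
        apply CartesianMonoidalCategory.hom_ext <;> simp [e, rightUnitor_hom, toUnit_unique (snd G (𝟙_ (Over S))) (toUnit _)]
      rw [reassoc_of% this, hm, ← Category.assoc, MonObj.mul_one]
      simp [rightUnitor_hom]
    mul_assoc := by
      refine h3.ext ?_
      have e1 : ((i ⊗ₘ i) ⊗ₘ i) ≫ (m ▷ H) = (μ[G] ▷ G) ≫ (i ⊗ₘ i) := by
        rw [← tensorHom_id m H, tensorHom_comp_tensorHom, hm, Category.comp_id, ← tensorHom_id μ[G] G,
          tensorHom_comp_tensorHom, Category.id_comp]
      have e2 : ((i ⊗ₘ i) ⊗ₘ i) ≫ (α_ H H H).hom ≫ (H ◁ m) = (α_ G G G).hom ≫ (G ◁ μ[G]) ≫ (i ⊗ₘ i) := by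
        rw [associator_naturality_assoc]
        congr 1
        rw [← id_tensorHom H m, tensorHom_comp_tensorHom, hm, Category.comp_id, ← id_tensorHom G μ[G],
          tensorHom_comp_tensorHom, Category.id_comp]
      rw [reassoc_of% e1, reassoc_of% e2, hm, MonObj.mul_assoc_assoc]
    inv := v
    left_inv := by
      refine hi.ext ?_
      have e1 : i ≫ lift v (𝟙 H) = lift ι[G] (𝟙 G) ≫ (i ⊗ₘ i) := by
        apply CartesianMonoidalCategory.hom_ext <;> simp [hv]
      rw [reassoc_of% e1, hm, GrpObj.left_inv_assoc]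
      simp [e, toUnit_unique (i ≫ toUnit H) (toUnit G)]
    right_inv := by
      refine hi.ext ?_
      have e1 : i ≫ lift (𝟙 H) v = lift (𝟙 G) ι[G] ≫ (i ⊗ₘ i) := by
        apply CartesianMonoidalCategory.hom_ext <;> simp [hv]
      rw [reassoc_of% e1, hm, GrpObj.right_inv_assoc]
      simp [e, toUnit_unique (i ≫ toUnit H) (toUnit G)] }
  letI := inst
  haveI : IsMonHom i := { one_hom := rfl, mul_hom := hm.symm }
  haveI : Mono i.left := inferInstance
  haveI : Mono i := Over.mono_of_mono_left i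
  haveI : QuasiCompact i.left := by
    haveI : IsAffineHom H.hom := isAffineHom_of_isAffine _
    haveI : QuasiCompact (i.left ≫ H.hom) := by rw [Over.w i]; infer_instance
    exact QuasiCompact.of_comp i.left H.hom
  haveI := isClosedImmersion_of_mono i
  exact isAffine_of_isAffineHom i.left

end GrothLib.AffMono14
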